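import Groth.Prelude.Def_BlowUp2
import Groth.Agent.BlowUpLib.Cartier
import Mathlib

/-!
A finite birational morphism which is an isomorphism off an effective Cartier divisor is a blowing up.
-/

set_option autoImplicit false
set_option linter.style.haveILetI false
set_option backward.isDefEq.respectTransparency false
set_option maxHeartbeats 1000000

universe u

open CategoryTheory AlgebraicGeometry Limits TopologicalSpace Opposite

noncomputable section

namespace Groth.Agent.BlowFinite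

set_option linter.unusedSectionVars false

variable {X Y : Scheme.{u}} (f : X ⟶ Y) (I : Y.IdealSheafData) (m : ℕ)

/-- The data on a good affine open. -/
structure Good (U : Y.affineOpens) where
  t : Γ(Y, U.1)
  ht : t ∈ nonZeroDivisors Γ(Y, U.1)
  inj : Function.Injective (f.app U.1)
  nzd : f.app U.1 t ∈ nonZeroDivisors Γ(X, f ⁻¹ᵁ U.1)
  exists_pre : ∀ a : Γ(X, f ⁻¹ᵁ U.1), ∃ r, f.app U.1 r = (f.app U.1 t) ^ m * a
  ideal_iff : ∀ r : Γ(Y, U.1), r ∈ I.ideal U ↔ ∃ a, f.app U.1 r = (f.app U.1 t) ^ m * a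

section Alg

variable {f I m} {U : Y.affineOpens} (G : Good f I m U)

lemma Good.pow_mem : G.t ^ m ∈ I.ideal U := (G.ideal_iff _).2 ⟨1, by rw [map_pow, mul_one]⟩

lemma Good.map_ideal : (I.ideal U).map (f.app U.1).hom = Ideal.span {(f.app U.1 G.t) ^ m} := by
  refine le_antisymm (Ideal.map_le_iff_le_comap.2 fun r hr => ?_) ?_
  · obtain ⟨a, ha⟩ := (G.ideal_iff r).1 hr
    exact Ideal.mem_span_singleton.2 ⟨a, ha⟩
  · rw [Ideal.span_singleton_le_iff_mem, ← map_pow]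
    exact Ideal.mem_map_of_mem _ G.pow_mem

variable {C : CommRingCat.{u}} (ψ : Γ(Y, U.1) ⟶ C) {h : C} (hh : h ∈ nonZeroDivisors C)
  (hI : (I.ideal U).map ψ.hom = Ideal.span {h})

include G hh hI in
lemma Good.gen : ψ G.t ^ m ∈ nonZeroDivisors C ∧ ∀ r ∈ I.ideal U, ψ G.t ^ m ∣ ψ r := by
  have hkey : ∀ x ∈ (I.ideal U).map ψ.hom, ∀ y ∈ (I.ideal U).map ψ.hom,
      x * y ∈ Ideal.span {ψ G.t ^ m} * Ideal.span {h} := by
    intro x hx y hy
    have hle : (I.ideal U).map ψ.hom * (I.ideal U).map ψ.hom ≤ Ideal.span {ψ G.t ^ m} * Ideal.span {h} := by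
      rw [← Ideal.map_mul, ← hI, Ideal.map_le_iff_le_comap, Ideal.mul_le]
      intro r hr r' hr'
      obtain ⟨a, ha⟩ := (G.ideal_iff r).1 hr
      obtain ⟨a', ha'⟩ := (G.ideal_iff r').1 hr'
      obtain ⟨q, hq⟩ := G.exists_pre (a * a')
      have e : r * r' = G.t ^ m * q := G.inj (by
        rw [map_mul, map_mul, map_pow, ha, ha', hq]; ring)
      rw [Ideal.mem_comap, e, map_mul, map_pow]
      exact Ideal.mul_mem_mul (Ideal.mem_span_singleton_self _) (Ideal.mem_map_of_mem _ ((G.ideal_iff q).2 ⟨_, hq⟩))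
    exact hle (Ideal.mul_mem_mul hx hy)
  have h2 := hkey h (hI ▸ Ideal.mem_span_singleton_self h) h (hI ▸ Ideal.mem_span_singleton_self h)
  rw [Ideal.span_singleton_mul_span_singleton, Ideal.mem_span_singleton] at h2
  obtain ⟨c, hc⟩ := h2
  have hsc : h = ψ G.t ^ m * c := by
    rw [← mul_cancel_left_mem_nonZeroDivisors hh, hc]; ring
  refine ⟨(mul_mem_nonZeroDivisors.1 (hsc ▸ hh)).1, fun r hr => ?_⟩
  have : ψ r ∈ Ideal.span {h} := hI ▸ Ideal.mem_map_of_mem ψ.hom hr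
  exact dvd_trans (hsc ▸ dvd_mul_right _ _) (Ideal.mem_span_singleton.1 this)

include G hh hI in
lemma Good.existsUnique_hom : ∃! θ : Γ(X, f ⁻¹ᵁ U.1) ⟶ C, f.app U.1 ≫ θ = ψ := by
  obtain ⟨hs, hdvd⟩ := G.gen ψ hh hI
  choose r hr using G.exists_pre
  have hrI : ∀ a, r a ∈ I.ideal U := fun a => (G.ideal_iff _).2 ⟨a, hr a⟩
  choose c hc using fun a => hdvd (r a) (hrI a)
  have hr_eq : ∀ a q, f.app U.1 q = (f.app U.1 G.t) ^ m * a → q = r a := fun a q hq =>
    G.inj (hq.trans (hr a).symm)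
  have hone : ∀ b, r (f.app U.1 b) = G.t ^ m * b := fun b => (hr_eq _ _ (by rw [map_mul, map_pow])).symm
  let θ : Γ(X, f ⁻¹ᵁ U.1) →+* C :=
    { toFun := c
      map_one' := by
        rw [← mul_cancel_left_mem_nonZeroDivisors hs, ← hc, ← map_one (f.app U.1).hom, hone, map_mul, map_pow, map_one]
      map_zero' := by
        rw [← mul_cancel_left_mem_nonZeroDivisors hs, ← hc, ← map_zero (f.app U.1).hom, hone, mul_zero, map_zero, mul_zero]
      map_add' := fun a b => by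
        rw [← mul_cancel_left_mem_nonZeroDivisors hs, mul_add, ← hc, ← hc, ← hc, ← map_add]
        exact congrArg ψ (hr_eq _ _ (by rw [map_add, hr, hr, mul_add])).symm
      map_mul' := fun a b => by
        rw [← mul_cancel_left_mem_nonZeroDivisors hs, ← mul_cancel_left_mem_nonZeroDivisors hs]
        have e : G.t ^ m * r (a * b) = r a * r b := G.inj (by
          rw [map_mul, map_mul, map_pow, hr, hr, hr]; ring)
        calc ψ G.t ^ m * (ψ G.t ^ m * c (a * b)) = ψ (r a) * ψ (r b) := by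
              rw [← hc, ← map_pow, ← map_mul, e, map_mul]
          _ = ψ G.t ^ m * (ψ G.t ^ m * (c a * c b)) := by rw [hc, hc]; ring }
  refine ⟨CommRingCat.ofHom θ, ?_, fun θ' hθ' => ?_⟩
  · ext b
    change c (f.app U.1 b) = ψ b
    rw [← mul_cancel_left_mem_nonZeroDivisors hs, ← hc, hone, map_mul, map_pow]
  · ext a
    change θ' a = c a
    have h1 : ∀ b, θ' (f.app U.1 b) = ψ b := fun b => congrArg (fun φ : Γ(Y, U.1) ⟶ C => φ b) hθ'
    rw [← mul_cancel_left_mem_nonZeroDivisors hs, ← hc, ← map_pow, ← h1, ← h1, hr, map_pow, map_mul]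

end Alg

variable [IsAffineHom f] (hgood : ∀ y : Y, ∃ U : Y.affineOpens, y ∈ U.1 ∧ Nonempty (Good f I m U))

variable {f I m} in
lemma Good.cartier {U : Y.affineOpens} (G : Good f I m U) (x : X) (hx : x ∈ f ⁻¹ᵁ U.1) :
    ∃ V : X.affineOpens, x ∈ V.1 ∧ ∃ h : Γ(X, V.1), h ∈ nonZeroDivisors Γ(X, V.1) ∧
      (I.comap f).ideal V = Ideal.span {h} := by
  refine ⟨⟨f ⁻¹ᵁ U.1, U.2.preimage f⟩, hx, (f.app U.1 G.t) ^ m, _root_.pow_mem G.nzd m, ?_⟩
  rw [FpqcDescent.ideal_comap_appLE I f U ⟨_, U.2.preimage f⟩ le_rfl, Scheme.Hom.appLE_eq_app, G.map_ideal]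

variable {f I m} in
lemma Good.existsUnique_local {U : Y.affineOpens} (G : Good f I m U) {T : Scheme.{u}} (g : T ⟶ Y)
    {W : T.affineOpens} (e : W.1 ≤ g ⁻¹ᵁ U.1) {h : Γ(T, W.1)} (hh : h ∈ nonZeroDivisors Γ(T, W.1))
    (hI : (I.comap g).ideal W = Ideal.span {h}) :
    ∃! k : Spec Γ(T, W.1) ⟶ X, k ≫ f = W.2.fromSpec ≫ g := by
  rw [FpqcDescent.ideal_comap_appLE I g U W e] at hI
  obtain ⟨θ, hθ, huniq⟩ := G.existsUnique_hom (g.appLE U.1 W.1 e) hh hI
  have hP : IsAffineOpen (f ⁻¹ᵁ U.1) := U.2.preimage f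
  have hcomp : ∀ θ' : Γ(X, f ⁻¹ᵁ U.1) ⟶ Γ(T, W.1),
      (Spec.map θ' ≫ hP.fromSpec) ≫ f = Spec.map (f.app U.1 ≫ θ') ≫ U.2.fromSpec := fun θ' => by
    rw [Category.assoc, ← IsAffineOpen.SpecMap_appLE_fromSpec f U.2 hP le_rfl, Spec.map_comp, Category.assoc,
      Scheme.Hom.appLE_eq_app]
  refine ⟨Spec.map θ ≫ hP.fromSpec, ?_, fun k hk => ?_⟩
  · change _ = _
    rw [hcomp, hθ, IsAffineOpen.SpecMap_appLE_fromSpec]
  · have hr : Set.range k ⊆ Set.range hP.fromSpec := by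
      rintro _ ⟨z, rfl⟩
      rw [hP.range_fromSpec]
      show f (k z) ∈ U.1
      rw [← Scheme.Hom.comp_apply, hk, Scheme.Hom.comp_apply]
      exact e (W.2.range_fromSpec.le ⟨z, rfl⟩)
    obtain ⟨θ', hθ'⟩ := Spec.map_surjective (IsOpenImmersion.lift hP.fromSpec k hr)
    have hfac := IsOpenImmersion.lift_fac hP.fromSpec k hr
    rw [← hθ'] at hfac
    rw [← hfac, huniq θ' (Spec.map_injective ((cancel_mono U.2.fromSpec).1 ?_))]
    rw [← hcomp, hfac, hk, IsAffineOpen.SpecMap_appLE_fromSpec]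

include hgood in
theorem exists_nhd {T : Scheme.{u}} (g : T ⟶ Y) (hg : BlowUp.IsEffCartierIdeal (I.comap g)) (w : T) :
    ∃ W : T.affineOpens, w ∈ W.1 ∧ ∃! k : W.1.toScheme ⟶ X, k ≫ f = W.1.ι ≫ g := by
  obtain ⟨U, hU, ⟨G⟩⟩ := hgood (g w)
  obtain ⟨W, hw, hle, h, hh, hI⟩ := BlowUpLib.exists_small_generator hg (show w ∈ g ⁻¹ᵁ U.1 from hU)
  obtain ⟨k, hk, huniq⟩ := G.existsUnique_local g hle hh hI
  refine ⟨W, hw, W.2.isoSpec.hom ≫ k, ?_, fun k' hk' => ?_⟩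
  · change _ = _
    rw [Category.assoc, hk, IsAffineOpen.isoSpec_hom_fromSpec_assoc]
  · rw [← huniq (W.2.isoSpec.inv ≫ k') (by
      change _ = _
      change k' ≫ f = _ at hk'
      rw [Category.assoc, hk', IsAffineOpen.isoSpec_inv_ι_assoc]),
      Iso.hom_inv_id_assoc]

include hgood in
theorem lift_unique {T : Scheme.{u}} (g : T ⟶ Y) (hg : BlowUp.IsEffCartierIdeal (I.comap g))
    (h h' : T ⟶ X) (hh : h ≫ f = g) (hh' : h' ≫ f = g) : h = h' := by
  choose W hw k hk using exists_nhd f I m hgood g hg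
  refine (T.openCoverOfIsOpenCover (fun w : T => (W w).1)
    (IsOpenCover.mk (eq_top_iff.2 fun w _ => Opens.mem_iSup.2 ⟨w, hw w⟩))).hom_ext _ _ fun (w : T) => ?_
  exact ((hk w).2 ((W w).1.ι ≫ h) ((Category.assoc _ _ _).trans (congrArg ((W w).1.ι ≫ ·) hh))).trans
    ((hk w).2 ((W w).1.ι ≫ h') ((Category.assoc _ _ _).trans (congrArg ((W w).1.ι ≫ ·) hh'))).symm

include hgood in
theorem isBlowUp : BlowUp.IsBlowUp f I := by
  refine ⟨fun x => ?_, fun T g hg => ?_⟩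
  · obtain ⟨U, hU, ⟨G⟩⟩ := hgood (f x)
    exact G.cartier x hU
  · choose W hw k hk using exists_nhd f I m hgood g hg
    let 𝒰 := T.openCoverOfIsOpenCover (fun w : T => (W w).1)
      (IsOpenCover.mk (eq_top_iff.2 fun w _ => Opens.mem_iSup.2 ⟨w, hw w⟩))
    let l : ∀ i : 𝒰.I₀, 𝒰.X i ⟶ X := fun i => k i
    have hl : ∀ i : 𝒰.I₀, l i ≫ f = 𝒰.f i ≫ g := fun i => (hk i).1
    refine ⟨𝒰.glueMorphisms l fun i j => ?_, ?_, fun h' hh' => lift_unique f I m hgood g hg _ _ hh' ?_⟩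
    · refine lift_unique f I m hgood (pullback.fst (𝒰.f i) (𝒰.f j) ≫ 𝒰.f i ≫ g) ?_ _ _ ?_ ?_
      · rw [Scheme.IdealSheafData.comap_comp, Scheme.IdealSheafData.comap_comp]
        exact BlowUpLib.cartier_comap_flat (BlowUpLib.cartier_comap_flat hg _) _
      · rw [Category.assoc, hl]
      · rw [Category.assoc, hl, pullback.condition_assoc]
    all_goals exact 𝒰.hom_ext _ _ fun i => by rw [Scheme.Cover.ι_glueMorphisms_assoc, hl]

section Construction

variable (L : Y.IdealSheafData)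

lemma bijective_app_of_le {C : Y.Opens} [IsIso (f ∣_ C)] {O : Y.Opens} (hO : O ≤ C) :
    Function.Bijective (f.app O) := by
  have h : C.ι ''ᵁ (C.ι ⁻¹ᵁ O) = O := by
    rw [Scheme.Hom.image_preimage_eq_opensRange_inf, Scheme.Opens.opensRange_ι, inf_eq_right.2 hO]
  have : IsIso (f.app O) := by
    have h1 : IsIso ((f ∣_ C).app (C.ι ⁻¹ᵁ O)) := inferInstance
    rw [morphismRestrict_app] at h1
    have h2 : IsIso (f.app (C.ι ''ᵁ (C.ι ⁻¹ᵁ O))) := IsIso.of_isIso_comp_right _ (X.presheaf.map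
      (eqToHom (image_morphismRestrict_preimage f C (C.ι ⁻¹ᵁ O))).op)
    rwa [h] at h2
  exact ConcreteCategory.bijective_of_isIso (f.app O)

variable [IsFinite f] [IsReduced X]
set_option linter.overlappingInstances false

theorem exists_exponent [IsIso (f ∣_ L.support.compl)] (hdense : Dense (f.base ⁻¹' ((L.support : Set Y)ᶜ)))
    (U : Y.affineOpens) (t : Γ(Y, U.1)) (ht : t ∈ nonZeroDivisors Γ(Y, U.1)) (hL : L.ideal U = Ideal.span {t}) :
    Function.Injective (f.app U.1) ∧ f.app U.1 t ∈ nonZeroDivisors Γ(X, f ⁻¹ᵁ U.1) ∧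
      ∃ k : ℕ, ∀ a : Γ(X, f ⁻¹ᵁ U.1), ∃ r, f.app U.1 r = (f.app U.1 t) ^ k * a := by
  let φ := f.app U.1
  have hP : IsAffineOpen (f ⁻¹ᵁ U.1) := U.2.preimage f
  have hD : Y.basicOpen t ≤ L.support.compl := fun y hy =>
    (BlowUpLib.mem_basicOpen_of_notMem_support hL (Y.basicOpen_le t hy)).2 hy
  have hbij := bijective_app_of_le f hD
  let ρ : Γ(Y, U.1) →+* Γ(Y, Y.basicOpen t) := (Y.presheaf.map (homOfLE (Y.basicOpen_le t)).op).hom
  let σ : Γ(X, f ⁻¹ᵁ U.1) →+* Γ(X, f ⁻¹ᵁ Y.basicOpen t) :=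
    (X.presheaf.map (homOfLE (f.preimage_mono (Y.basicOpen_le t))).op).hom
  have hnat : ∀ r, f.app (Y.basicOpen t) (ρ r) = σ (φ r) := fun r =>
    ConcreteCategory.congr_hom (f.naturality (homOfLE (Y.basicOpen_le t)).op) r
  have hnzd : φ t ∈ nonZeroDivisors Γ(X, f ⁻¹ᵁ U.1) := by
    suffices ∀ a, a * φ t = 0 → a = 0 from ⟨fun a ha => this a ((mul_comm _ _).trans ha), this⟩
    intro a ha
    by_contra hne
    have hb : X.basicOpen a ≠ ⊥ := fun h => hne ((AlgebraicGeometry.basicOpen_eq_bot_iff a).1 h)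
    obtain ⟨x, hxa⟩ := (Opens.ne_bot_iff_nonempty _).1 hb
    obtain ⟨x', hx'a, hx'⟩ := hdense.inter_open_nonempty _ (X.basicOpen a).2 ⟨x, hxa⟩
    have hxU : x' ∈ f ⁻¹ᵁ U.1 := X.basicOpen_le a hx'a
    have hxt : f x' ∈ Y.basicOpen t := (BlowUpLib.mem_basicOpen_of_notMem_support hL hxU).1 hx'
    have h2 : x' ∈ X.basicOpen (a * φ t) := by
      rw [X.basicOpen_mul, ← Scheme.preimage_basicOpen]
      exact ⟨hx'a, hxt⟩
    rw [ha, X.basicOpen_zero] at h2
    exact h2.elim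
  haveI hloc := U.2.isLocalization_basicOpen t
  have hinj : Function.Injective φ := by
    rw [injective_iff_map_eq_zero]
    intro r hr
    have h1 : ρ r = 0 := hbij.1 (by rw [hnat, hr, map_zero, map_zero])
    obtain ⟨⟨_, n, rfl⟩, hn⟩ := (IsLocalization.map_eq_zero_iff (Submonoid.powers t) Γ(Y, Y.basicOpen t) r).1 h1
    exact (mul_left_mem_nonZeroDivisors_eq_zero_iff (pow_mem ht n)).1 hn
  refine ⟨hinj, hnzd, ?_⟩
  have hone : ∀ a : Γ(X, f ⁻¹ᵁ U.1), ∃ (k : ℕ) (r : Γ(Y, U.1)), φ r = φ t ^ k * a := fun a => by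
    obtain ⟨b, hb⟩ := hbij.2 (σ a)
    obtain ⟨r, n, hr⟩ := IsLocalization.Away.surj (S := Γ(Y, Y.basicOpen t)) t b
    change b * ρ t ^ r = ρ _ at hr
    have h1 : σ (φ t ^ r * a - φ n) = 0 := by
      rw [map_sub, map_mul, map_pow, ← hnat, ← hnat, ← hb, ← map_pow, ← map_mul, mul_comm, hr, sub_self]
    have he : X.basicOpen (φ t) = f ⁻¹ᵁ Y.basicOpen t := (Scheme.preimage_basicOpen f t).symm
    letI := σ.toAlgebra
    haveI : IsLocalization.Away (φ t) Γ(X, f ⁻¹ᵁ Y.basicOpen t) := hP.isLocalization_of_eq_basicOpen (φ t) (homOfLE (f.preimage_mono (Y.basicOpen_le t))) he.symm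
    obtain ⟨⟨_, l, rfl⟩, hl⟩ := (IsLocalization.map_eq_zero_iff (Submonoid.powers (φ t))
      Γ(X, f ⁻¹ᵁ Y.basicOpen t) _).1 h1
    exact ⟨r, n, (sub_eq_zero.1 ((mul_left_mem_nonZeroDivisors_eq_zero_iff (pow_mem hnzd l)).1 hl)).symm⟩
  letI := φ.hom.toAlgebra
  haveI : Module.Finite Γ(Y, U.1) Γ(X, f ⁻¹ᵁ U.1) := f.finite_app U.1 U.2
  obtain ⟨S, hS⟩ := (Module.Finite.fg_top : (⊤ : Submodule Γ(Y, U.1) Γ(X, f ⁻¹ᵁ U.1)).FG)
  choose k r hr using hone
  refine ⟨S.sup k, fun a => ?_⟩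
  have ha : a ∈ Submodule.span Γ(Y, U.1) (S : Set Γ(X, f ⁻¹ᵁ U.1)) := hS ▸ Submodule.mem_top
  induction ha using Submodule.span_induction with
  | mem a ha =>
    refine ⟨t ^ (S.sup k - k a) * r a, ?_⟩
    rw [map_mul, map_pow, hr, ← mul_assoc, ← pow_add, Nat.sub_add_cancel (Finset.le_sup ha)]
  | zero => exact ⟨0, by rw [map_zero, mul_zero]⟩
  | add a b _ _ ha hb =>
    obtain ⟨p, hp⟩ := ha
    obtain ⟨q, hq⟩ := hb
    exact ⟨p + q, by rw [map_add, hp, hq, mul_add]⟩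
  | smul b a _ ha =>
    obtain ⟨p, hp⟩ := ha
    refine ⟨b * p, ?_⟩
    rw [map_mul, hp]
    change φ b * _ = _ * (φ b * a)
    ring

theorem exists_isBlowUp [CompactSpace Y] (hL : BlowUp.IsEffCartierIdeal L)
    (hiso : IsIso (f ∣_ L.support.compl)) (hdense : Dense (f.base ⁻¹' ((L.support : Set Y)ᶜ))) :
    ∃ I : Y.IdealSheafData, I.support = L.support ∧ BlowUp.IsBlowUp f I := by
  choose U hU t ht he using hL
  choose hinj hnzd k hk using fun y => exists_exponent f L hdense (U y) (t y) (ht y) (he y)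
  obtain ⟨S, hS⟩ := isCompact_univ.elim_finite_subcover (fun y : Y => ((U y).1 : Set Y))
    (fun y => (U y).1.2) (fun y _ => Set.mem_iUnion.2 ⟨y, hU y⟩)
  let n := S.sup k
  let I := ((L.comap f) ^ (n + 1)).map f
  have hid : ∀ (y : Y) (r : Γ(Y, (U y).1)), r ∈ I.ideal (U y) ↔
      ∃ a, f.app (U y).1 r = f.app (U y).1 (t y) ^ (n + 1) * a := fun y r => by
    rw [Scheme.IdealSheafData.ideal_map_of_isAffineHom, Scheme.IdealSheafData.ideal_pow, Pi.pow_apply,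
      Ideal.mem_comap, FpqcDescent.ideal_comap_appLE L f (U y) ⟨_, (U y).2.preimage f⟩ le_rfl,
      Scheme.Hom.appLE_eq_app, he, Ideal.map_span, Set.image_singleton, Ideal.span_singleton_pow,
      Ideal.mem_span_singleton]
    exact Iff.rfl
  have hpre : ∀ y ∈ S, ∀ a, ∃ r, f.app (U y).1 r = f.app (U y).1 (t y) ^ n * a := fun y hy a => by
    obtain ⟨r, hr⟩ := hk y a
    refine ⟨t y ^ (n - k y) * r, ?_⟩
    rw [map_mul, map_pow, hr, ← mul_assoc, ← pow_add, Nat.sub_add_cancel (Finset.le_sup hy)]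
  have hgood : ∀ y ∈ S, Nonempty (Good f I (n + 1) (U y)) := fun y hy =>
    ⟨{ t := t y, ht := ht y, inj := hinj y, nzd := hnzd y
       exists_pre := fun a => by
         obtain ⟨r, hr⟩ := hpre y hy a
         exact ⟨t y * r, by rw [map_mul, hr, pow_succ']; ring⟩
       ideal_iff := hid y }⟩
  refine ⟨I, SetLike.ext fun x => ?_, isBlowUp f I (n + 1) fun x => ?_⟩
  · obtain ⟨y, hy, hxy⟩ := Set.mem_iUnion₂.1 (hS (Set.mem_univ x))
    rw [Scheme.IdealSheafData.mem_support_iff_of_mem hxy, Scheme.IdealSheafData.mem_support_iff_of_mem hxy,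
      Scheme.mem_zeroLocus_iff, Scheme.mem_zeroLocus_iff, he]
    constructor
    · intro h r hr hxr
      obtain ⟨c, rfl⟩ := Ideal.mem_span_singleton.1 hr
      refine h (t y ^ (n + 1)) ((hid y _).2 ⟨1, by rw [map_pow, mul_one]⟩) ?_
      rw [Y.basicOpen_pow _ n.succ_pos]
      exact (Y.basicOpen_mul _ _ ▸ hxr).1
    · intro h r hr hxr
      obtain ⟨a, ha⟩ := (hid y r).1 hr
      obtain ⟨r', hr'⟩ := hpre y hy a
      have e : r = t y * r' := hinj y (by rw [ha, map_mul, hr', pow_succ']; ring)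
      exact h r (Ideal.mem_span_singleton.2 ⟨r', e⟩) hxr
  · obtain ⟨y, hy, hxy⟩ := Set.mem_iUnion₂.1 (hS (Set.mem_univ x))
    exact ⟨U y, hxy, hgood y hy⟩

end Construction

end Groth.Agent.BlowFinite
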